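import Mathlib.FieldTheory.AbsoluteGaloisGroup
import Mathlib.FieldTheory.Galois.Profinite
import Mathlib.FieldTheory.PurelyInseparable.Basic

/-!
# The absolute Galois group is compact

The automorphisms of an algebraic closure are those of the separable closure inside it, as
topological groups.
-/

universe u

open IntermediateField

namespace GrothLib.Pi1Field21

variable (K : Type u) [Field K]

/-- The separable closure inside the chosen algebraic closure. -/
noncomputable abbrev sepC : IntermediateField K (AlgebraicClosure K) := separableClosure K (AlgebraicClosure K)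

/-- Restriction to the separable closure. -/
noncomputable abbrev res : Gal(AlgebraicClosure K/K) →* Gal(sepC K/K) :=
  AlgEquiv.restrictNormalHom (F := K) (K₁ := AlgebraicClosure K) (sepC K)

theorem res_apply (σ : Gal(AlgebraicClosure K/K)) (x : sepC K) :
    ((res K σ x : sepC K) : AlgebraicClosure K) = σ x :=
  AlgEquiv.restrictNormal_commutes σ (sepC K) x

theorem exists_pow_mem (x : AlgebraicClosure K) :
    ∃ n : ℕ, x ^ (ringExpChar (sepC K)) ^ n ∈ sepC K := by
  obtain ⟨n, y, hy⟩ := (isPurelyInseparable_iff_pow_mem (sepC K) (ringExpChar (sepC K))).1 inferInstance x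
  exact ⟨n, hy ▸ y.2⟩

theorem fix_of_pow (σ : Gal(AlgebraicClosure K/K)) (x : AlgebraicClosure K) (n : ℕ)
    (h : σ (x ^ (ringExpChar (sepC K)) ^ n) = x ^ (ringExpChar (sepC K)) ^ n) : σ x = x := by
  haveI : ExpChar (AlgebraicClosure K) (ringExpChar (sepC K)) :=
    expChar_of_injective_ringHom (algebraMap (sepC K) (AlgebraicClosure K)).injective _
  rw [map_pow] at h
  exact iterateFrobenius_inj (AlgebraicClosure K) (ringExpChar (sepC K)) n h

theorem res_injective : Function.Injective (res K) := by
  rw [injective_iff_map_eq_one]
  intro σ hσ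
  ext x
  obtain ⟨n, hn⟩ := exists_pow_mem K x
  refine fix_of_pow K σ x n ?_
  have := res_apply K σ ⟨_, hn⟩
  rw [hσ] at this
  exact this.symm

theorem res_surjective : Function.Surjective (res K) :=
  AlgEquiv.restrictNormalHom_surjective (AlgebraicClosure K)

/-- The group isomorphism. -/
noncomputable def resEquiv : Gal(AlgebraicClosure K/K) ≃* Gal(sepC K/K) :=
  MulEquiv.ofBijective (res K) ⟨res_injective K, res_surjective K⟩

theorem continuous_resEquiv_symm : Continuous (resEquiv K).symm := by
  classical
  apply continuous_of_continuousAt_one _ (continuousAt_def.mpr _)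
  intro N hN
  rw [map_one, krullTopology_mem_nhds_one_iff] at hN
  obtain ⟨L, hL, hO⟩ := hN
  obtain ⟨s, hs⟩ := IntermediateField.fg_of_fg_toSubalgebra L
    ((Subalgebra.fg_top _).1 (Algebra.FiniteType.out (R := K) (A := L.toSubalgebra)))
  choose n hn using exists_pow_mem K
  let t : Set (sepC K) := (fun x => ⟨_, hn x⟩) '' (s : Set (AlgebraicClosure K))
  let L' : IntermediateField K (sepC K) := IntermediateField.adjoin K t
  haveI : Finite t := ((s.finite_toSet).image _).to_subtype
  haveI : FiniteDimensional K L' :=
    IntermediateField.finiteDimensional_adjoin fun x _ => Algebra.IsIntegral.isIntegral x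
  refine mem_nhds_iff.mpr ⟨L'.fixingSubgroup, fun τ hτ => hO ?_, L'.fixingSubgroup_isOpen,
    one_mem _⟩
  rw [SetLike.mem_coe, IntermediateField.mem_fixingSubgroup_iff] at hτ ⊢
  intro x hx
  let σ := (resEquiv K).symm τ
  have hσ : res K σ = τ := (resEquiv K).apply_symm_apply τ
  let F : IntermediateField K (AlgebraicClosure K) :=
    { carrier := {z | σ z = z}
      mul_mem' := fun {a b} ha hb => by simp_all
      add_mem' := fun {a b} ha hb => by simp_all
      algebraMap_mem' := fun r => σ.commutes r
      inv_mem' := fun a ha => by simp_all }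
  suffices L ≤ F from this hx
  rw [← hs, IntermediateField.adjoin_le_iff]
  intro z hz
  refine fix_of_pow K σ z (n z) ?_
  have := res_apply K σ ⟨_, hn z⟩
  rw [hσ, hτ _ (IntermediateField.subset_adjoin K t ⟨z, hz, rfl⟩)] at this
  exact this.symm

instance : CompactSpace Gal(AlgebraicClosure K/K) :=
  ⟨by
    rw [← (resEquiv K).symm.surjective.range_eq]
    exact isCompact_range (continuous_resEquiv_symm K)⟩

end GrothLib.Pi1Field21
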