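import Groth.Agent.Lib.Pi1Field21.AbsGal
import Groth.Agent.Lib.FEt21.Galois
import Mathlib.CategoryTheory.Galois.IsFundamentalgroup
import Mathlib.CategoryTheory.Galois.Equivalence
import Mathlib.Topology.Category.FinTopCat
import Mathlib.RingTheory.Etale.Field

/-!
# The absolute Galois group is the fundamental group of the spectrum of a field
-/

universe u

open CategoryTheory CategoryTheory.Limits AlgebraicGeometry
open scoped FintypeCatDiscrete

namespace GrothLib.Pi1Field21

variable (K : Type u) [Field K]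

/-- The geometric point of the spectrum of a field. -/
noncomputable abbrev geom : Spec (CommRingCat.of (AlgebraicClosure K)) ⟶ Spec (CommRingCat.of K) :=
  Spec.map (CommRingCat.ofHom (algebraMap K (AlgebraicClosure K)))

instance galoisCategory : GaloisCategory (FEt.Cat (Spec (CommRingCat.of K))) where
  toPreGaloisCategory := GrothLib.FEt21.preGalois
  hasFiberFunctor :=
    haveI := GrothLib.FEt21.preGalois (X := Spec (CommRingCat.of K))
    ⟨GrothLib.FEt21.fibFin (geom K), ⟨GrothLib.FEt21.fiberFunctor (geom K)⟩⟩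

/-- The fibre functor at the geometric point. -/
noncomputable abbrev fib : FEt.Cat (Spec (CommRingCat.of K)) ⥤ FintypeCat.{u} :=
  GrothLib.FEt21.fibFin (geom K)

instance : PreGaloisCategory.FiberFunctor (fib K) := GrothLib.FEt21.fiberFunctor (geom K)

variable {K}

/-- An automorphism acting on the spectrum. -/
noncomputable def specAut (σ : Gal(AlgebraicClosure K/K)) :
    Spec (CommRingCat.of (AlgebraicClosure K)) ⟶ Spec (CommRingCat.of (AlgebraicClosure K)) :=
  Spec.map (CommRingCat.ofHom (σ : AlgebraicClosure K →+* AlgebraicClosure K))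

theorem specAut_geom (σ : Gal(AlgebraicClosure K/K)) : specAut σ ≫ geom K = geom K := by
  rw [specAut, geom, ← Spec.map_comp]
  exact congrArg Spec.map (CommRingCat.hom_ext (RingHom.ext σ.commutes))

theorem specAut_one : specAut (1 : Gal(AlgebraicClosure K/K)) = 𝟙 _ := by
  rw [specAut, ← Spec.map_id]; rfl

theorem specAut_mul (σ τ : Gal(AlgebraicClosure K/K)) : specAut (σ * τ) = specAut σ ≫ specAut τ := by
  rw [specAut, specAut, specAut, ← Spec.map_comp]; rfl

noncomputable instance fiberAction (Y : FEt.Cat (Spec (CommRingCat.of K))) :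
    MulAction Gal(AlgebraicClosure K/K) (FEt.fiberObj (geom K) Y) where
  smul σ s := ⟨specAut σ ≫ s.1, by rw [Category.assoc, s.2]; exact specAut_geom σ⟩
  one_smul s := Subtype.ext (by show specAut 1 ≫ s.1 = s.1; rw [specAut_one, Category.id_comp])
  mul_smul σ τ s := Subtype.ext (by
    show specAut (σ * τ) ≫ s.1 = specAut σ ≫ specAut τ ≫ s.1
    rw [specAut_mul, Category.assoc])

noncomputable instance fibAction (Y : FEt.Cat (Spec (CommRingCat.of K))) :
    MulAction Gal(AlgebraicClosure K/K) ((fib K).obj Y) :=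
  inferInstanceAs (MulAction Gal(AlgebraicClosure K/K) (FEt.fiberObj (geom K) Y))

section Algebra

variable (Y : FEt.Cat (Spec (CommRingCat.of K)))

instance : IsAffine Y.left :=
  have : IsFinite Y.hom := Y.prop.1
  isAffine_of_isAffineHom (show Y.left ⟶ Spec (CommRingCat.of K) from Y.hom)

/-- The structure homomorphism on global sections. -/
noncomputable def str : CommRingCat.of K ⟶ Γ(Y.left, ⊤) :=
  Spec.preimage (Y.left.isoSpec.inv ≫ Y.hom)

theorem str_finite : (str Y).hom.Finite := by
  have : IsFinite Y.hom := Y.prop.1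
  rw [← IsFinite.SpecMap_iff, str, Spec.map_preimage]
  infer_instance

variable {Y}

/-- The homomorphism attached to a geometric point. -/
noncomputable def chi (s : FEt.fiberObj (geom K) Y) :
    Γ(Y.left, ⊤) ⟶ CommRingCat.of (AlgebraicClosure K) :=
  Spec.preimage (s.1 ≫ Y.left.isoSpec.hom)

theorem str_chi (s : FEt.fiberObj (geom K) Y) :
    str Y ≫ chi s = CommRingCat.ofHom (algebraMap K (AlgebraicClosure K)) := by
  apply Spec.map_injective
  rw [Spec.map_comp, chi, str, Spec.map_preimage, Spec.map_preimage, Category.assoc,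
    Iso.hom_inv_id_assoc]
  exact s.2

theorem chi_injective : Function.Injective (chi (Y := Y)) := fun s t h => Subtype.ext (by
  have := congrArg Spec.map h
  rw [chi, chi, Spec.map_preimage, Spec.map_preimage] at this
  exact (cancel_mono Y.left.isoSpec.hom).1 this)

theorem chi_smul (σ : Gal(AlgebraicClosure K/K)) (s : FEt.fiberObj (geom K) Y) :
    chi (σ • s) = chi s ≫ CommRingCat.ofHom (σ : AlgebraicClosure K →+* AlgebraicClosure K) := by
  apply Spec.map_injective
  rw [Spec.map_comp, chi, chi, Spec.map_preimage, Spec.map_preimage]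
  exact Category.assoc (specAut σ) s.1 _

theorem isOpen_stabilizer (s : FEt.fiberObj (geom K) Y) :
    IsOpen (MulAction.stabilizer Gal(AlgebraicClosure K/K) s : Set Gal(AlgebraicClosure K/K)) := by
  letI : Algebra K Γ(Y.left, ⊤) := (str Y).hom.toAlgebra
  haveI : Module.Finite K Γ(Y.left, ⊤) := str_finite Y
  let b := Module.finBasis K Γ(Y.left, ⊤)
  let f : Γ(Y.left, ⊤) →ₐ[K] AlgebraicClosure K :=
    { (chi s).hom with commutes' := fun r => congr($(str_chi s).hom r) }
  let L : IntermediateField K (AlgebraicClosure K) := IntermediateField.adjoin K (Set.range (f ∘ b))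
  haveI : FiniteDimensional K L :=
    IntermediateField.finiteDimensional_adjoin fun x _ => Algebra.IsIntegral.isIntegral x
  refine Subgroup.isOpen_mono (fun σ hσ => ?_) L.fixingSubgroup_isOpen
  rw [MulAction.mem_stabilizer_iff]
  apply chi_injective
  rw [chi_smul]
  have h : (σ.toAlgHom.comp f).toLinearMap = f.toLinearMap := b.ext fun i => by
    exact (IntermediateField.mem_fixingSubgroup_iff L σ).1 hσ _
      (IntermediateField.subset_adjoin K _ ⟨i, rfl⟩)
  exact CommRingCat.hom_ext (RingHom.ext fun a => congr($h a))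

theorem exists_smul_of_eq (s t : FEt.fiberObj (geom K) Y) (h : s.1 default = t.1 default) :
    ∃ σ : Gal(AlgebraicClosure K/K), σ • s = t := by
  letI : Algebra K Γ(Y.left, ⊤) := (str Y).hom.toAlgebra
  haveI : Module.Finite K Γ(Y.left, ⊤) := str_finite Y
  let f (s : FEt.fiberObj (geom K) Y) : Γ(Y.left, ⊤) →ₐ[K] AlgebraicClosure K :=
    { (chi s).hom with commutes' := fun r => congr($(str_chi s).hom r) }
  let m (s : FEt.fiberObj (geom K) Y) : Ideal Γ(Y.left, ⊤) := RingHom.ker (f s)
  have hm : ∀ s, m s = (Spec.map (chi s) default).asIdeal := fun s => by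
    have hb : (default : Spec (CommRingCat.of (AlgebraicClosure K))).asIdeal = ⊥ :=
      congrArg PrimeSpectrum.asIdeal (Subsingleton.elim
        (default : Spec (CommRingCat.of (AlgebraicClosure K)))
        (⟨⊥, Ideal.isPrime_bot⟩ : PrimeSpectrum (AlgebraicClosure K)))
    show _ = Ideal.comap (chi s).hom (default : Spec (CommRingCat.of (AlgebraicClosure K))).asIdeal
    rw [hb]; rfl
  have hker : m t = m s := by
    rw [hm, hm, chi, chi, Spec.map_preimage, Spec.map_preimage, Scheme.Hom.comp_apply,
      Scheme.Hom.comp_apply, h]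
  haveI : (m s).IsPrime := RingHom.ker_isPrime _
  haveI : IsArtinianRing Γ(Y.left, ⊤) := isArtinian_of_tower K inferInstance
  haveI : (m s).IsMaximal := IsArtinianRing.isMaximal_of_isPrime (m s)
  letI : Field (Γ(Y.left, ⊤) ⧸ m s) := Ideal.Quotient.field _
  let es : (Γ(Y.left, ⊤) ⧸ m s) →ₐ[K] AlgebraicClosure K :=
    Ideal.Quotient.liftₐ (m s) (f s) fun a ha => ha
  let et : (Γ(Y.left, ⊤) ⧸ m s) →ₐ[K] AlgebraicClosure K :=
    Ideal.Quotient.liftₐ (m s) (f t) fun a ha => by rw [← hker] at ha; exact ha
  let ψ : es.fieldRange →ₐ[K] AlgebraicClosure K :=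
    et.comp (AlgEquiv.ofInjectiveField es).symm.toAlgHom
  let Φ : AlgebraicClosure K →ₐ[K] AlgebraicClosure K := ψ.liftNormal (AlgebraicClosure K)
  refine ⟨AlgEquiv.ofBijective Φ (Algebra.IsAlgebraic.algHom_bijective Φ), chi_injective ?_⟩
  rw [chi_smul]
  refine CommRingCat.hom_ext (RingHom.ext fun a => ?_)
  show Φ (es (Ideal.Quotient.mk _ a)) = et (Ideal.Quotient.mk _ a)
  refine Eq.trans (ψ.liftNormal_commutes (AlgebraicClosure K)
    (AlgEquiv.ofInjectiveField es (Ideal.Quotient.mk _ a))) ?_
  show et ((AlgEquiv.ofInjectiveField es).symm (AlgEquiv.ofInjectiveField es _)) = _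
  rw [AlgEquiv.symm_apply_apply]

end Algebra

set_option backward.isDefEq.respectTransparency.types false in
set_option backward.isDefEq.respectTransparency false in
theorem exists_smul_eq (Y : FEt.Cat (Spec (CommRingCat.of K))) [PreGaloisCategory.IsConnected Y]
    (s t : FEt.fiberObj (geom K) Y) : ∃ σ : Gal(AlgebraicClosure K/K), σ • s = t := by
  refine exists_smul_of_eq s t ?_
  letI : Algebra K Γ(Y.left, ⊤) := (str Y).hom.toAlgebra
  haveI : Module.Finite K Γ(Y.left, ⊤) := str_finite Y
  haveI : IsArtinianRing Γ(Y.left, ⊤) := isArtinian_of_tower K inferInstance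
  haveI : DiscreteTopology (PrimeSpectrum Γ(Y.left, ⊤)) := inferInstance
  haveI : DiscreteTopology (Spec Γ(Y.left, ⊤) : Scheme.{u}) := ‹DiscreteTopology (PrimeSpectrum _)›
  let P : Scheme.{u} := Y.left
  haveI : DiscreteTopology P := Y.left.isoSpec.hom.homeomorph.symm.discreteTopology
  let W : P.Opens := ⟨{s.1 default}, isOpen_discrete _⟩
  let Z := GrothLib.FEt21.mkOf Y W.ι (GrothLib.FEt21.prop_ι W (isClosed_discrete _))
  let i : Z ⟶ Y := MorphismProperty.Over.homMk W.ι rfl
  have hr : Set.range s.1 ⊆ Set.range W.ι := by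
    rintro _ ⟨p, rfl⟩
    rw [Scheme.Opens.range_ι]
    exact congrArg s.1 (Subsingleton.elim p default)
  let z : (fib K).obj Z := ⟨IsOpenImmersion.lift W.ι s.1 hr, by
    show _ ≫ W.ι ≫ Y.hom = _
    rw [IsOpenImmersion.lift_fac_assoc]; exact s.2⟩
  have hz : (fib K).map i z = s := Subtype.ext (by
    show IsOpenImmersion.lift W.ι s.1 hr ≫ W.ι = s.1
    exact IsOpenImmersion.lift_fac W.ι s.1 hr)
  haveI := PreGaloisCategory.FiberFunctor.isPretransitive_of_isConnected (fib K) Y
  obtain ⟨g, hg⟩ := MulAction.exists_smul_eq (Aut (fib K)) (show (fib K).obj Y from s) t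
  let z' : FEt.fiberObj (geom K) Z := g • z
  have hz' : (fib K).map i (g • z) = g • (fib K).map i z :=
    FunctorToFintypeCat.naturality (fib K) (fib K) g.hom i z |>.symm
  rw [hz, hg] at hz'
  have hmem : t.1 default ∈ Set.range W.ι :=
    ⟨z'.1 default, by rw [← congrArg Subtype.val hz']; rfl⟩
  rw [Scheme.Opens.range_ι] at hmem
  exact hmem.symm

theorem fix_separable (σ : Gal(AlgebraicClosure K/K))
    (h : ∀ (Y : FEt.Cat (Spec (CommRingCat.of K))) (s : FEt.fiberObj (geom K) Y), σ • s = s)
    (x : sepC K) : σ x = x := by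
  let L : IntermediateField K (AlgebraicClosure K) := IntermediateField.adjoin K {(x : AlgebraicClosure K)}
  have hx : IsSeparable K (x : AlgebraicClosure K) := mem_separableClosure_iff.1 x.2
  haveI : FiniteDimensional K L := IntermediateField.adjoin.finiteDimensional hx.isIntegral
  haveI : Algebra.IsSeparable K L := IntermediateField.isSeparable_adjoin_simple_iff_isSeparable _ _ |>.2 hx
  haveI : Algebra.FormallyEtale K L := Algebra.FormallyEtale.of_isSeparable K L
  haveI : Algebra.Etale K L := ⟨inferInstance, Algebra.FinitePresentation.of_finiteType.1 inferInstance⟩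
  have hfin : IsFinite (Spec.map (CommRingCat.ofHom (algebraMap K L))) :=
    (IsFinite.SpecMap_iff _).2 (RingHom.finite_algebraMap.2 inferInstance)
  have het : Etale (Spec.map (CommRingCat.ofHom (algebraMap K L))) :=
    (HasRingHomProperty.Spec_iff (P := @Etale)).2 (RingHom.etale_algebraMap.2 inferInstance)
  let Y : FEt.Cat (Spec (CommRingCat.of K)) := MorphismProperty.Over.mk ⊤ _ ⟨hfin, het⟩
  let s : FEt.fiberObj (geom K) Y := ⟨Spec.map (CommRingCat.ofHom L.val.toRingHom), by
    show Spec.map _ ≫ Spec.map _ = Spec.map _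
    rw [← Spec.map_comp]; rfl⟩
  have h1 : specAut σ ≫ s.1 = s.1 := congrArg Subtype.val (h Y s)
  have h2 : Spec.map (CommRingCat.ofHom L.val.toRingHom ≫
      CommRingCat.ofHom (σ : AlgebraicClosure K →+* AlgebraicClosure K)) =
      Spec.map (CommRingCat.ofHom L.val.toRingHom) := (Spec.map_comp _ _).trans h1
  exact congr($(Spec.map_injective h2).hom ⟨x, IntermediateField.mem_adjoin_simple_self K _⟩)

variable (K)

instance isFundamentalGroup :
    PreGaloisCategory.IsFundamentalGroup (fib K) Gal(AlgebraicClosure K/K) where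
  naturality σ _ _ f s := Subtype.ext (Category.assoc _ _ _)
  transitive_of_isGalois Y _ := ⟨fun s t => exists_smul_eq Y s t⟩
  continuous_smul Y := continuousSMul_iff_stabilizer_isOpen.2 fun s => isOpen_stabilizer s
  non_trivial' σ h := by
    ext x
    obtain ⟨n, hn⟩ := exists_pow_mem K x
    exact fix_of_pow K σ x n (fix_separable σ (fun Y s => h Y s) ⟨_, hn⟩)

/-- The absolute Galois group and the automorphisms of the fibre functor, as topological groups. -/
noncomputable def galEquiv : Gal(AlgebraicClosure K/K) ≃ₜ* Aut (fib K) :=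
  { PreGaloisCategory.toAutMulEquiv (fib K) Gal(AlgebraicClosure K/K) with
    continuous_toFun := (PreGaloisCategory.toAutHomeo (fib K) Gal(AlgebraicClosure K/K)).continuous
    continuous_invFun := (PreGaloisCategory.toAutHomeo (fib K) Gal(AlgebraicClosure K/K)).symm.continuous }

end GrothLib.Pi1Field21
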