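import Groth.Agent.Lib.Pi1Field21.Fiber
import Groth.Agent.Lib.FEt21.Clopen
import Groth.Agent.Lib.GalCat21.Exact

/-!
# Geometrically connected schemes over a field: pullback of covers is fully faithful
-/

set_option autoImplicit false
set_option backward.isDefEq.respectTransparency false
set_option linter.style.haveILetI false

universe u

open CategoryTheory CategoryTheory.Limits CategoryTheory.PreGaloisCategory AlgebraicGeometry

namespace GrothLib.Pi1Field21

open GrothLib.FEt21

variable {k : Type u} [Field k]

theorem discrete_left (A : FEt.Cat (Spec (CommRingCat.of k))) : DiscreteTopology A.left := by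
  letI : Algebra k Γ(A.left, ⊤) := (str A).hom.toAlgebra
  haveI : Module.Finite k Γ(A.left, ⊤) := str_finite A
  haveI : IsArtinianRing Γ(A.left, ⊤) := isArtinian_of_tower k inferInstance
  haveI : DiscreteTopology (PrimeSpectrum Γ(A.left, ⊤)) := inferInstance
  haveI : DiscreteTopology (Spec Γ(A.left, ⊤) : Scheme.{u}) := ‹DiscreteTopology (PrimeSpectrum _)›
  exact A.left.isoSpec.hom.homeomorph.symm.discreteTopology

theorem exists_point_over (A : FEt.Cat (Spec (CommRingCat.of k))) (z : A.left) :
    ∃ s : FEt.fiberObj (geom k) A, s.1 default = z := by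
  haveI := discrete_left A
  let P : Scheme.{u} := A.left
  let W : P.Opens := ⟨{z}, isOpen_discrete _⟩
  obtain ⟨t⟩ := nonempty_fiber (geom k)
    (mkOf A W.ι (prop_ι W (isClosed_discrete _))) (⟨z, rfl⟩ : W.toScheme)
  exact ⟨⟨t.1 ≫ W.ι, (Category.assoc _ _ _).trans t.2⟩, (t.1 default).2⟩

variable {X : Scheme.{u}} (f : X ⟶ Spec (CommRingCat.of k))
  [ConnectedSpace ↥(pullback f (geom k))]

theorem connFibres (A : FEt.Cat (Spec (CommRingCat.of k))) : ConnFibres f A := fun z => by
  obtain ⟨s, hs⟩ := exists_point_over A z
  refine ⟨AlgebraicClosure k, inferInstance, s.1, hs, ?_⟩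
  have h : PreconnectedSpace ↥(pullback f (geom k)) := inferInstance
  exact Eq.mpr (congrArg (fun g => PreconnectedSpace ↥(pullback f g)) s.2) h

theorem surjective_structure : Surjective f := by
  obtain ⟨p⟩ := (inferInstance : Nonempty ↥(pullback f (geom k)))
  exact ⟨fun y => ⟨pullback.fst f (geom k) p, @Subsingleton.elim (PrimeSpectrum k) _ _ y⟩⟩

theorem restrict_fullyFaithful : (FEt.restrict f).Full ∧ (FEt.restrict f).Faithful := by
  haveI := surjective_structure f
  refine fullyFaithful_of_clopen f (fun A => clopenInj_of_surjective f A) fun A =>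
    clopenSurj_of_connFibres f A (connFibres f A) ?_
  haveI : DiscreteTopology ↥((𝟭 Scheme.{u}).obj A.left) := discrete_left A
  exact fun s _ => isClosed_discrete _

include f in
theorem connectedSpace : ConnectedSpace X := by
  haveI : Surjective (geom k) := ⟨fun z => ⟨default, @Subsingleton.elim (PrimeSpectrum k) _ _ z⟩⟩
  exact (pullback.fst f (geom k)).surjective.connectedSpace (pullback.fst f (geom k)).continuous

include f in
theorem galois_connected : GaloisCategory (FEt.Cat X) := by
  haveI := connectedSpace f
  obtain ⟨x⟩ := (inferInstance : Nonempty X)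
  haveI := GrothLib.FEt21.preGalois (X := X)
  exact { hasFiberFunctor := ⟨fibFin (geomPt X x), ⟨GrothLib.FEt21.fiberFunctor (geomPt X x)⟩⟩ }

/-- The fibre of a base change, with finite values. -/
noncomputable def restrictFibIso {Y : Scheme.{u}} (g : X ⟶ Y) {Ω : Type u} [Field Ω]
    (ξ : Spec (CommRingCat.of Ω) ⟶ X) : FEt.restrict g ⋙ fibFin ξ ≅ fibFin (ξ ≫ g) :=
  NatIso.ofComponents
    (fun A => FintypeCat.equivEquivIso ((restrictFiberIso g ξ).app A).toEquiv)
    fun {A B} φ => by
      ext s
      exact congr($((restrictFiberIso g ξ).hom.naturality φ) s)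

end GrothLib.Pi1Field21
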