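import Groth.Agent.Lib.Pi1Field21.GeomConn
import Groth.Agent.Lib.FEt21.Graph
import Groth.Agent.Lib.FEt21.Henselian

/-!
# Proper schemes over henselian local rings
-/

set_option autoImplicit false
set_option backward.isDefEq.respectTransparency false

universe u

open CategoryTheory CategoryTheory.Limits AlgebraicGeometry

namespace GrothLib.Pi1Field21

variable {A : Type u} [CommRing A] [IsLocalRing A] {X : Scheme.{u}}
  (f : X ⟶ Spec (CommRingCat.of A))

local notation "q" => Spec.map (CommRingCat.ofHom (IsLocalRing.residue A))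

/-- The closed point lies in the closure of every nonempty closed set over a proper scheme. -/
theorem clopenInj_closedFibre [UniversallyClosed f] (B : FEt.Cat X) :
    FEt21.ClopenInj (pullback.fst f q) B := by
  intro D hD he
  by_contra hne
  obtain ⟨z, hz⟩ := Set.nonempty_iff_ne_empty.mpr hne
  haveI : IsFinite B.hom := B.prop.1
  haveI : UniversallyClosed (B.hom ≫ f) := inferInstance
  have hcl : IsClosed ((B.hom ≫ f) '' D) := (B.hom ≫ f).isClosedMap _ hD.1
  obtain ⟨w, hw, hwc⟩ : IsLocalRing.closedPoint A ∈ (B.hom ≫ f) '' D :=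
    (IsLocalRing.specializes_closedPoint _).mem_closed hcl ⟨z, hz, rfl⟩
  obtain ⟨s, hs₁, -⟩ := Scheme.Pullback.exists_preimage_pullback (f := f) (g := q) (B.hom w)
    (IsLocalRing.closedPoint _) (hwc.trans (IsLocalRing.PrimeSpectrum.comap_residue A _).symm)
  obtain ⟨p, hp, -⟩ := Scheme.Pullback.exists_preimage_pullback (f := B.hom)
    (g := pullback.fst f q) w s hs₁.symm
  exact Set.eq_empty_iff_forall_notMem.1 he p (show pullback.fst B.hom (pullback.fst f q) p ∈ D from hp.symm ▸ hw)

/-- Over a henselian local ring, with geometrically connected closed fibre, pullback of covers is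
fully faithful. -/
theorem restrict_fullyFaithful_of_closedFibre [HenselianRing A (IsLocalRing.maximalIdeal A)]
    [UniversallyClosed f]
    [ConnectedSpace ↥(pullback (pullback.snd f q) (geom (IsLocalRing.ResidueField A)))] :
    (FEt.restrict f).Full ∧ (FEt.restrict f).Faithful := by
  obtain ⟨_, _⟩ := restrict_fullyFaithful (k := IsLocalRing.ResidueField A) (pullback.snd f q)
  haveI : (FEt.restrict q).IsEquivalence :=
    FEt21.isEquivalence_of_henselian A (IsLocalRing.maximalIdeal A)
  haveI : (FEt.restrict (pullback.fst f q)).Faithful :=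
    FEt21.faithful_of_clopenInj _ (clopenInj_closedFibre f)
  let e : FEt.restrict f ⋙ FEt.restrict (pullback.fst f q) ≅
      FEt.restrict q ⋙ FEt.restrict (pullback.snd f q) :=
    (MorphismProperty.Over.pullbackComp (P := FEt.prop.{u}) (Q := ⊤) _ _).symm ≪≫
      MorphismProperty.Over.pullbackCongr pullback.condition ≪≫
      MorphismProperty.Over.pullbackComp (P := FEt.prop.{u}) (Q := ⊤) _ _
  haveI : (FEt.restrict f ⋙ FEt.restrict (pullback.fst f q)).Faithful :=
    Functor.Faithful.of_iso e.symm
  haveI : (FEt.restrict f ⋙ FEt.restrict (pullback.fst f q)).Full := Functor.Full.of_iso e.symm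
  exact ⟨Functor.Full.of_comp_faithful _ (FEt.restrict (pullback.fst f q)),
    Functor.Faithful.of_comp _ (FEt.restrict (pullback.fst f q))⟩

end GrothLib.Pi1Field21
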