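import Groth.Agent.Lib.Pi1Field21.Henselian
import Groth.Agent.S17961
import Mathlib.RingTheory.Henselian

/-!
# Restriction to the closed fibre of a proper scheme over a Noetherian henselian local ring
-/

set_option autoImplicit false
set_option backward.isDefEq.respectTransparency false

universe u

open CategoryTheory CategoryTheory.Limits AlgebraicGeometry

namespace GrothLib.Pi1Field21

variable {A : Type u} [CommRing A] [IsNoetherianRing A] [IsLocalRing A]
  [HenselianRing A (IsLocalRing.maximalIdeal A)] {X : Scheme.{u}}
  (f : X ⟶ Spec (CommRingCat.of A)) [IsProper f]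

local notation "q" => Spec.map (CommRingCat.ofHom (IsLocalRing.residue A))

theorem existsUnique_clopen (B : FEt.Cat X)
    (V : Set (pullback B.hom (pullback.fst f q) : Scheme.{u})) (hV : IsClopen V) :
    ∃! U : Set B.left, IsClopen U ∧ (pullback.fst B.hom (pullback.fst f q)) ⁻¹' U = V :=
  Groth.Agent.S17961.result A (IsLocalRing.maximalIdeal A) f B.left B.hom B.prop.1 V hV

/-- Restriction to the closed fibre is fully faithful. -/
theorem restrict_closedFibre_fullyFaithful :
    (FEt.restrict (pullback.fst f q)).Full ∧ (FEt.restrict (pullback.fst f q)).Faithful :=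
  FEt21.fullyFaithful_of_clopen _ (fun B => clopenInj_closedFibre f B)
    fun B C hC => (existsUnique_clopen f B C hC).exists

/-- The closed fibre of a connected cover is connected. -/
theorem connectedSpace_restrict_closedFibre (B : FEt.Cat X) [ConnectedSpace B.left] :
    ConnectedSpace ↥((FEt.restrict (pullback.fst f q)).obj B).left := by
  show ConnectedSpace (pullback B.hom (pullback.fst f q) : Scheme.{u})
  let π := pullback.fst B.hom (pullback.fst f q)
  have hne : Nonempty (pullback B.hom (pullback.fst f q) : Scheme.{u}) := by
    by_contra h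
    rw [not_nonempty_iff] at h
    exact Set.univ_nonempty.ne_empty
      (clopenInj_closedFibre f B Set.univ isClopen_univ (Set.eq_empty_of_isEmpty _))
  refine connectedSpace_iff_clopen.mpr ⟨hne, fun V hV => ?_⟩
  obtain ⟨U, ⟨hU, rfl⟩, -⟩ := existsUnique_clopen f B V hV
  haveI : ConnectedSpace ↥((𝟭 Scheme.{u}).obj B.left) := ‹ConnectedSpace ↥B.left›
  rcases isClopen_iff.1 hU with rfl | rfl
  · exact Or.inl Set.preimage_empty
  · exact Or.inr Set.preimage_univ

end GrothLib.Pi1Field21
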